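import Groth.Agent.ShriekRingLib.Step
import Groth.Agent.ShriekRingLib.DualBase

/-!
# Base change along evaluation at zero
-/

set_option autoImplicit false
set_option linter.all false
set_option maxHeartbeats 1000000

universe u

open CategoryTheory CategoryTheory.Limits Pretriangulated
open Groth.Agent DTen DTenLib
open scoped Polynomial

attribute [local instance] HasDerivedCategory.standard

noncomputable section

namespace EvalZeroLib

open FinDualLib Groth.Agent.DualCxLib TorIndBCLib ShriekRingLib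

/-- Derived base change kills scalars in the kernel. -/
theorem LBase_map_smul_id {A B : Type u} [CommRing A] [CommRing B] (ψ : A →+* B) [HasLBase ψ] {a : A}
    (ha : ψ a = 0) (E : Dual.D A) : (LBase ψ).map (a • 𝟙 E) = 0 := by
  refine ((baseAdj ψ).homEquiv E ((LBase ψ).obj E)).injective ?_
  rw [Adjunction.homEquiv_unit, Adjunction.homEquiv_unit, Functor.map_zero, comp_zero]
  have h : (baseAdj ψ).unit.app E ≫ (DRing.restrictD ψ).map ((LBase ψ).map (a • 𝟙 E)) =
      (a • 𝟙 E) ≫ (baseAdj ψ).unit.app E := ((baseAdj ψ).unit.naturality (a • 𝟙 E)).symm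
  refine h.trans ?_
  have h2 : a • 𝟙 ((DRing.restrictD ψ).obj ((LBase ψ).obj E)) = 0 := by
    rw [← restrictD_smul_id ψ a ((LBase ψ).obj E), ha, zero_smul, Functor.map_zero]
  rw [Linear.smul_comp, Category.id_comp, ← Category.comp_id ((baseAdj ψ).unit.app E)]
  exact (Linear.comp_smul _ _ _ ((baseAdj ψ).unit.app E) a (𝟙 _)).symm.trans
    ((congrArg _ h2).trans comp_zero)

variable {B : Type u} [CommRing B]

/-- Base change of an object killed by the variable. -/
theorem main [HasLBase (Polynomial.evalRingHom (0 : B))] (K : Dual.D B)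
    [HasBinaryBiproduct K (K⟦(1 : ℤ)⟧)] :
    Nonempty ((LBase (Polynomial.evalRingHom (0 : B))).obj
      ((DRing.restrictD (Polynomial.evalRingHom (0 : B))).obj K) ≅ K ⊞ K⟦(1 : ℤ)⟧) := by
  haveI := Groth.Agent.DualCxLib.hasLTen (A := B)
  haveI := Groth.Agent.DualCxLib.hasLTen (A := B[X])
  haveI := Groth.Agent.DualCxLib.hasRHom (A := B)
  haveI := Groth.Agent.DualCxLib.hasRHom (A := B[X])
  let ψ : B[X] →+* B := Polynomial.evalRingHom (0 : B)
  let φ := algebraMap B B[X]
  let P := DerivedCategory.Q.objPreimage K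
  let eP : DerivedCategory.Q.obj P ≅ K := DerivedCategory.Q.objObjPreimageIso K
  let N : DRing.Cx B[X] := (resCx ψ).obj P
  let N₀ : DRing.Cx B := (resCx φ).obj N
  let chi : (extCx φ).obj N₀ ⟶ (extCx φ).obj N₀ :=
    { f := fun i => chiNat.app (N.X i)
      comm' := fun i j _ => (chiNat.naturality (N.d i j)).symm }
  let S : ShortComplex (DRing.Cx B[X]) := ShortComplex.mk chi (DTenLib.counitCx φ N)
    (HomologicalComplex.hom_ext _ _ fun i => chi_comp_ev (N.X i))
  have hS : S.ShortExact := HomologicalComplex.shortExact_of_degreewise_shortExact _ fun i => shortExact_char (N.X i)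
  let E := DerivedCategory.Q.obj ((extCx φ).obj N₀)
  have hchi : DerivedCategory.Q.map chi = (Polynomial.X : B[X]) • 𝟙 E := by
    rw [show chi = (Polynomial.X : B[X]) • 𝟙 _ from HomologicalComplex.hom_ext _ _ fun i => ?_, Functor.map_smul,
      CategoryTheory.Functor.map_id]
    show (Polynomial.X : B[X]) • 𝟙 _ - (ModuleCat.extendScalars.{u, u, u} φ).map (actX (N.X i)) =
      (Polynomial.X : B[X]) • 𝟙 _
    have h0 : actX (N.X i) = 0 := ModuleCat.hom_ext (LinearMap.ext fun m => by
      show Polynomial.eval (0 : B) Polynomial.X • (show P.X i from m) = 0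
      rw [Polynomial.eval_X, zero_smul])
    rw [h0, Functor.map_zero]
    exact sub_zero _
  obtain ⟨T, hT, e₁, e₂, e₃, w₁, -⟩ := isTri_LBase ψ _ (DerivedCategory.triangleOfSES_distinguished hS)
  have hzero : T.mor₁ = 0 := by
    rw [← cancel_mono e₂.hom, ← w₁, zero_comp]
    show e₁.hom ≫ (LBase ψ).map (DerivedCategory.Q.map chi) = 0
    have h2 : (LBase ψ).map (DerivedCategory.Q.map chi) = 0 := by
      rw [hchi]
      exact LBase_map_smul_id ψ (a := Polynomial.X) (by simp [ψ]) E
    exact (congrArg _ h2).trans comp_zero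
  obtain ⟨e, -⟩ := exists_iso_binaryBiproduct_of_distTriang T.rotate (rot_of_distTriang T hT) (by
    show -(T.mor₁⟦(1 : ℤ)⟧') = 0
    rw [hzero, Functor.map_zero, neg_zero])
  have hid : ψ.comp φ = RingHom.id B := RingHom.ext fun b => by simp [ψ, φ]
  let c : DerivedCategory.Q.obj N₀ ≅ K :=
    (resFactors φ).symm.app N ≪≫ (DRing.restrictD φ).mapIso ((resFactors ψ).symm.app P) ≪≫
      (DRing.restrictD φ).mapIso ((DRing.restrictD ψ).mapIso eP) ≪≫
      ((resDComp φ ψ (RingHom.id B) hid).symm ≪≫ resDId).app K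
  obtain ⟨k, -⟩ := exists_iso_univ
    (isUniv_comp hid (FlatExtLib.isUniv_γ_flat (A := B) (S := B[X]) N₀) (isUniv_unit (baseAdj ψ) E))
    (isUniv_of_iso (RingEquiv.refl B) (c ≪≫ (resDId.app K).symm))
  exact ⟨(LBase ψ).mapIso ((DRing.restrictD ψ).mapIso eP.symm ≪≫ (resFactors ψ).app P) ≪≫ e₃.symm ≪≫ e ≪≫
    biprod.mapIso (e₂ ≪≫ k) ((shiftFunctor _ (1 : ℤ)).mapIso (e₁ ≪≫ k))⟩

end EvalZeroLib
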